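import Mathlib

/-!
Leading-term argument showing that a given nontrivial word is not a law in a matrix group
containing a torus and enough translates in general position.
-/

set_option autoImplicit false

namespace CfsgLib.Laws

open Polynomial

variable {F : Type*} [Field F]

section matrices

variable {ι : Type} [Fintype ι] [DecidableEq ι]

/-- The matrix polynomial `k * diag(X^E) * kinv`. -/
noncomputable def torusFactor (k kinv : Matrix ι ι F) (E : ι → ℕ) : Matrix ι ι F[X] :=
  k.map C * Matrix.diagonal (fun r => (X : F[X]) ^ E r) * kinv.map C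

theorem natDegree_torusFactor_le (k kinv : Matrix ι ι F) (E : ι → ℕ) (M : ℕ)
    (hM : ∀ r, E r ≤ M) (a b : ι) : (torusFactor k kinv E a b).natDegree ≤ M := by
  rw [torusFactor, Matrix.mul_apply]
  refine natDegree_sum_le_of_forall_le _ _ fun r _ => ?_
  rw [Matrix.mul_diagonal, Matrix.map_apply, Matrix.map_apply]
  calc (C (k a r) * X ^ E r * C (kinv r b)).natDegree
      ≤ (C (k a r) * X ^ E r).natDegree + (C (kinv r b)).natDegree := natDegree_mul_le
    _ ≤ ((C (k a r)).natDegree + (X ^ E r : F[X]).natDegree) + 0 := by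
        gcongr
        · exact natDegree_mul_le
        · simp
    _ ≤ M := by simpa using hM r

theorem coeff_torusFactor (k kinv : Matrix ι ι F) (E : ι → ℕ) (M : ℕ) (top : ι)
    (htop : ∀ r, E r = M ↔ r = top) (a b : ι) :
    (torusFactor k kinv E a b).coeff M = k a top * kinv top b := by
  rw [torusFactor, Matrix.mul_apply, finsetSum_coeff, Finset.sum_eq_single top]
  · rw [Matrix.mul_diagonal, Matrix.map_apply, Matrix.map_apply, (htop top).2 rfl,
      coeff_mul_C, coeff_C_mul, coeff_X_pow]
    simp
  · intro r _ hr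
    rw [Matrix.mul_diagonal, Matrix.map_apply, Matrix.map_apply, coeff_mul_C, coeff_C_mul,
      coeff_X_pow, if_neg]
    · simp
    · exact fun h => hr ((htop r).1 h.symm)
  · simp

theorem eval_torusFactor (k kinv : Matrix ι ι F) (E : ι → ℕ) (t : F) :
    (torusFactor k kinv E).map (eval t) = k * Matrix.diagonal (fun r => t ^ E r) * kinv := by
  have h : ∀ A : Matrix ι ι F, (A.map C).map (eval t) = A := by
    intro A; ext a b; simp
  change (torusFactor k kinv E).map (evalRingHom t) = _
  rw [torusFactor, Matrix.map_mul, Matrix.map_mul, coe_evalRingHom, h, h,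
    Matrix.diagonal_map (by simp)]
  congr 2
  ext r; simp

variable {J : Type*} [Inhabited J]

theorem leading_term (top : Bool → ι) (k kinv : J → Matrix ι ι F) (E : Bool → ι → ℕ) (M : ℕ)
    (htop : ∀ b r, E b r = M ↔ r = top b) (hE : ∀ b r, E b r ≤ M) :
    ∀ L : List (J × Bool), L ≠ [] →
    List.IsChain (fun p p' => (kinv p.1 * k p'.1) (top p.2) (top p'.2) ≠ 0) L →
    ∃ (c : F) (q : J × Bool), c ≠ 0 ∧
      (∀ a b, ((L.map (fun p => torusFactor (k p.1) (kinv p.1) (E p.2))).prod a b).natDegree ≤
        M * L.length) ∧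
      (∀ a b, ((L.map (fun p => torusFactor (k p.1) (kinv p.1) (E p.2))).prod a b).coeff
        (M * L.length) = c * (k (L.headI).1 a (top (L.headI).2) * kinv q.1 (top q.2) b)) := by
  intro L
  induction L with
  | nil => intro h; exact absurd rfl h
  | cons p L ih =>
    intro _ hch
    rcases L with _ | ⟨p', L⟩
    · refine ⟨1, p, one_ne_zero, ?_, ?_⟩
      · intro a b
        simpa using natDegree_torusFactor_le _ _ _ M (hE p.2) a b
      · intro a b
        simpa using coeff_torusFactor (k p.1) (kinv p.1) (E p.2) M (top p.2) (htop p.2) a b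
    · rw [List.isChain_cons_cons] at hch
      obtain ⟨c, q, hc, hdeg, hcoef⟩ := ih (by simp) hch.2
      refine ⟨(kinv p.1 * k p'.1) (top p.2) (top p'.2) * c, q, mul_ne_zero hch.1 hc, ?_, ?_⟩
      · intro a b
        rw [List.map_cons, List.prod_cons, Matrix.mul_apply]
        refine natDegree_sum_le_of_forall_le _ _ fun r _ => ?_
        refine le_trans natDegree_mul_le ?_
        refine le_trans (add_le_add (natDegree_torusFactor_le _ _ _ M (hE p.2) a r)
          (hdeg r b)) ?_
        simp only [List.length_cons]; ring_nf; exact le_rfl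
      · intro a b
        rw [List.map_cons, List.prod_cons, Matrix.mul_apply, finsetSum_coeff]
        have hlen : M * (p :: p' :: L).length = M + M * (p' :: L).length := by
          simp only [List.length_cons]; ring
        rw [hlen]
        calc ∑ r, (torusFactor (k p.1) (kinv p.1) (E p.2) a r *
              ((p' :: L).map (fun p => torusFactor (k p.1) (kinv p.1) (E p.2))).prod r b).coeff
              (M + M * (p' :: L).length)
            = ∑ r, k p.1 a (top p.2) * (kinv p.1 (top p.2) r * k p'.1 r (top p'.2)) *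
                (c * kinv q.1 (top q.2) b) := by
              refine Finset.sum_congr rfl fun r _ => ?_
              rw [coeff_mul_add_eq_of_natDegree_le
                (natDegree_torusFactor_le _ _ _ M (hE p.2) a r) (hdeg r b),
                coeff_torusFactor _ _ _ M _ (htop p.2), hcoef]
              simp only [List.headI_cons]
              ring
          _ = _ := by
              rw [← Finset.sum_mul, ← Finset.mul_sum, ← Matrix.mul_apply]
              simp only [List.headI_cons]
              ring

theorem exists_eval_not_scalar [Fintype F] (P : Matrix ι ι F[X]) (d : ℕ)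
    (hd : ∀ a b, (P a b).natDegree ≤ d) (u v : ι → F) (c : F) (hc : c ≠ 0) (hu : u ≠ 0)
    (hv : v ≠ 0) (hP : ∀ a b, (P a b).coeff d = c * (u a * v b)) (hι : 2 ≤ Fintype.card ι)
    (hF : d + 1 < Fintype.card F) :
    ∃ t : F, t ≠ 0 ∧ ∀ s : F, P.map (eval t) ≠ Matrix.scalar ι s := by
  classical
  obtain ⟨a, ha⟩ := Function.ne_iff.1 hu
  obtain ⟨b, hb⟩ := Function.ne_iff.1 hv
  simp only [Pi.zero_apply] at ha hb
  have key : ∃ i j : ι, i ≠ j ∧ ((P i j ≠ 0) ∨ P i i - P j j ≠ 0) := by
    by_cases hab : a = b
    · subst hab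
      obtain ⟨r, hr⟩ := Fintype.exists_ne_of_one_lt_card (by omega) a
      by_cases hur : u r = 0
      · refine ⟨a, r, hr.symm, Or.inr ?_⟩
        intro h
        have := congrArg (fun f => Polynomial.coeff f d) h
        simp [hP, hur, hc, ha, hb] at this
      · refine ⟨r, a, hr, Or.inl ?_⟩
        intro h
        have := congrArg (fun f => Polynomial.coeff f d) h
        simp [hP, hc, hur, hb] at this
    · refine ⟨a, b, hab, Or.inl ?_⟩
      intro h
      have := congrArg (fun f => Polynomial.coeff f d) h
      simp [hP, hc, ha, hb] at this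
  obtain ⟨i, j, hij, hne⟩ := key
  have root : ∀ f : F[X], f.natDegree ≤ d → f ≠ 0 → ∃ t : F, t ≠ 0 ∧ f.eval t ≠ 0 := by
    intro f hf hf0
    by_contra hcon
    push Not at hcon
    have h0 : (X : F[X]) * f = 0 := by
      refine eq_zero_of_natDegree_lt_card_of_eval_eq_zero _ (Function.injective_id) ?_ ?_
      · intro t
        by_cases ht : t = 0
        · simp [ht]
        · simp [hcon t ht]
      · refine lt_of_le_of_lt (natDegree_mul_le) ?_
        rw [natDegree_X]; omega
    simp [hf0] at h0
  rcases hne with h | h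
  · obtain ⟨t, ht, hev⟩ := root _ (hd i j) h
    refine ⟨t, ht, fun s hs => hev ?_⟩
    have := congrFun (congrFun hs i) j
    simpa [hij] using this
  · obtain ⟨t, ht, hev⟩ := root (P i i - P j j)
      (le_trans (natDegree_sub_le _ _) (max_le (hd i i) (hd j j))) h
    refine ⟨t, ht, fun s hs => hev ?_⟩
    have h1 := congrFun (congrFun hs i) i
    have h2 := congrFun (congrFun hs j) j
    simp [Matrix.map_apply] at h1 h2
    simp [h1, h2]

end matrices

theorem lift_eq_prod {α G : Type*} [Group G] [DecidableEq α] (f : α → G) (w : FreeGroup α) :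
    FreeGroup.lift f w = (w.toWord.map fun p => cond p.2 (f p.1) (f p.1)⁻¹).prod := by
  conv_lhs => rw [← FreeGroup.mk_toWord (x := w)]
  rw [FreeGroup.lift_mk]

/-- A word which is nontrivial in the free group takes a non-scalar value in every matrix group
with a torus `d` (image `a t • diag (t ^ E)`, with unique highest and lowest weights) and elements
`kk i` in general position, once the field is large. All values substituted lie in every normal
subgroup containing the torus. -/
theorem exists_not_scalar_value {ι : Type} [Fintype ι] [DecidableEq ι] [Fintype F] {G : Type*}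
    [Group G] (φ : G →* Matrix ι ι F) (d : F → G) (a : F → F) (E : ι → ℕ) (M : ℕ) (it ib : ι)
    (hit : ∀ r, E r = M ↔ r = it) (hib : ∀ r, E r = 0 ↔ r = ib) (hE : ∀ r, E r ≤ M)
    (hd : ∀ t : F, t ≠ 0 → φ (d t) = a t • Matrix.diagonal (fun r => t ^ E r))
    (hι : 2 ≤ Fintype.card ι) (kk : ℕ → G) (w : FreeGroup ℕ) (hw : w ≠ 1)
    (hk : ∀ i j, i ≠ j → i ∈ w.toWord.map Prod.fst → j ∈ w.toWord.map Prod.fst →
      ∀ r s : ι, (r = it ∨ r = ib) → (s = it ∨ s = ib) → φ ((kk i)⁻¹ * kk j) r s ≠ 0)
    (hF : M * w.toWord.length + 1 < Fintype.card F) :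
    ∃ t : F, t ≠ 0 ∧ ∀ s : F,
      φ (FreeGroup.lift (fun i => kk i * d t * (kk i)⁻¹) w) ≠ Matrix.scalar ι s := by
  classical
  set L := w.toWord with hL
  have hL0 : L ≠ [] := fun h => hw (FreeGroup.toWord_eq_nil_iff.1 h)
  set k : ℕ → Matrix ι ι F := fun i => φ (kk i) with hkdef
  set kinv : ℕ → Matrix ι ι F := fun i => φ (kk i)⁻¹ with hkinvdef
  set E' : Bool → ι → ℕ := fun b r => if b then E r else M - E r with hE'
  set top : Bool → ι := fun b => if b then it else ib with htopdef
  have htop : ∀ b r, E' b r = M ↔ r = top b := by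
    intro b r
    cases b
    · simp only [hE', htopdef, Bool.false_eq_true, if_false]
      rw [← hib r]
      have := hE r
      omega
    · simpa [hE', htopdef] using hit r
  have hE'le : ∀ b r, E' b r ≤ M := by
    intro b r
    cases b <;> simp [hE', hE r]
  have hkk : ∀ i, kinv i * k i = 1 := fun i => by simp [hkdef, hkinvdef, ← map_mul]
  have hchain : List.IsChain (fun p p' => (kinv p.1 * k p'.1) (top p.2) (top p'.2) ≠ 0) L := by
    have hred : List.IsChain (fun p p' : ℕ × Bool => p.1 = p'.1 → p.2 = p'.2) L :=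
      (FreeGroup.isReduced_toWord : FreeGroup.IsReduced w.toWord)
    refine List.IsChain.imp_of_mem_imp (fun p p' hp hp' hpp' => ?_) hred
    by_cases h : p.1 = p'.1
    · rw [← hpp' h, ← h, hkk]
      simp
    · have hp1 : p.1 ∈ L.map Prod.fst := List.mem_map_of_mem hp
      have hp2 : p'.1 ∈ L.map Prod.fst := List.mem_map_of_mem hp'
      simp only [hkdef, hkinvdef, ← map_mul]
      exact hk p.1 p'.1 h hp1 hp2 _ _ (by cases p.2 <;> simp [htopdef])
        (by cases p'.2 <;> simp [htopdef])
  obtain ⟨c, q, hc, hdeg, hcoef⟩ := leading_term top k kinv E' M htop hE'le L hL0 hchain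
  set P := (L.map (fun p => torusFactor (k p.1) (kinv p.1) (E' p.2))).prod with hP
  have hu : (fun r => k (L.headI).1 r (top (L.headI).2)) ≠ 0 := by
    intro h
    have h1 := congrFun (congrFun (hkk (L.headI).1) (top (L.headI).2)) (top (L.headI).2)
    rw [Matrix.mul_apply, Finset.sum_eq_zero (fun r _ => by
      have := congrFun h r; simp only [Pi.zero_apply] at this; simp [this])] at h1
    simp at h1
  have hv : (fun r => kinv q.1 (top q.2) r) ≠ 0 := by
    intro h
    have h1 := congrFun (congrFun (hkk q.1) (top q.2)) (top q.2)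
    rw [Matrix.mul_apply, Finset.sum_eq_zero (fun r _ => by
      have := congrFun h r; simp only [Pi.zero_apply] at this; simp [this])] at h1
    simp at h1
  obtain ⟨t, ht, hns⟩ := exists_eval_not_scalar P (M * L.length) hdeg _ _ c hc hu hv hcoef hι hF
  refine ⟨t, ht, fun s hs => ?_⟩
  have ha : a t ≠ 0 := by
    intro h0
    have h1 : φ (d t) * φ (d t)⁻¹ = 1 := by rw [← map_mul, mul_inv_cancel, map_one]
    rw [hd t ht, h0, zero_smul, zero_mul] at h1
    have := congrFun (congrFun h1 it) it
    simp at this
  have hinv : φ (d t)⁻¹ = (a t * t ^ M)⁻¹ • Matrix.diagonal (fun r => t ^ (M - E r)) := by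
    have h1 : φ (d t)⁻¹ * φ (d t) = 1 := by rw [← map_mul, inv_mul_cancel, map_one]
    refine left_inv_eq_right_inv h1 ?_
    rw [hd t ht, smul_mul_smul_comm, Matrix.diagonal_mul_diagonal, ← Matrix.diagonal_smul,
      ← Matrix.diagonal_one]
    congr 1
    ext r
    simp only [Pi.smul_apply, smul_eq_mul, ← pow_add, Nat.add_sub_cancel' (hE r)]
    field_simp
  have hprod : ∀ L' : List (ℕ × Bool), ∃ e : F, e ≠ 0 ∧
      φ ((L'.map fun p => cond p.2 (kk p.1 * d t * (kk p.1)⁻¹)
        (kk p.1 * d t * (kk p.1)⁻¹)⁻¹).prod) =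
      e • (L'.map (fun p => torusFactor (k p.1) (kinv p.1) (E' p.2))).prod.map (eval t) := by
    intro L'
    induction L' with
    | nil =>
      refine ⟨1, one_ne_zero, ?_⟩
      simp
    | cons p L' ih =>
      obtain ⟨e, he, heq⟩ := ih
      have hmul : ((p :: L').map (fun p => torusFactor (k p.1) (kinv p.1) (E' p.2))).prod.map
          (eval t) = (k p.1 * Matrix.diagonal (fun r => t ^ E' p.2 r) * kinv p.1) *
          (L'.map (fun p => torusFactor (k p.1) (kinv p.1) (E' p.2))).prod.map (eval t) := by
        rw [List.map_cons, List.prod_cons]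
        rw [show eval t = ⇑(evalRingHom t) from rfl, Matrix.map_mul]
        rw [show ⇑(evalRingHom t) = eval t from rfl, eval_torusFactor]
      rw [hmul, List.map_cons, List.prod_cons, map_mul, heq]
      rcases hb : p.2 with _ | _
      · refine ⟨(a t * t ^ M)⁻¹ * e,
          mul_ne_zero (inv_ne_zero (mul_ne_zero ha (pow_ne_zero _ ht))) he, ?_⟩
        simp only [cond_false, mul_inv_rev, inv_inv, map_mul, hinv, hkdef, hkinvdef, hE']
        simp [mul_assoc, Matrix.smul_mul, Matrix.mul_smul, smul_smul, mul_comm]
      · refine ⟨a t * e, mul_ne_zero ha he, ?_⟩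
        simp only [cond_true, map_mul, hd t ht, hkdef, hkinvdef, hE']
        simp [mul_assoc, Matrix.smul_mul, Matrix.mul_smul, smul_smul, mul_comm]
  obtain ⟨e, he, heq⟩ := hprod L
  rw [lift_eq_prod] at hs
  rw [← hL, heq] at hs
  refine hns (e⁻¹ * s) ?_
  have := congrArg (fun A => e⁻¹ • A) hs
  simp only [smul_smul, inv_mul_cancel₀ he, one_smul] at this
  rw [hP, this]
  ext i j
  rcases eq_or_ne i j with rfl | h <;> simp [*]

end CfsgLib.Laws
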