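import Mathlib
import Cfsg.Agent.Lib.Laws.LeadingTerm

/-!
Nontrivial words are not laws in large `SL₂` and large alternating groups.
-/

set_option autoImplicit false

namespace CfsgLib.Laws

open scoped commutatorElement

/-- Some substitution by elements of the commutator subgroup gives `w` a nontrivial value. -/
def NotLawC (G : Type*) [Group G] (w : FreeGroup ℕ) : Prop :=
  ∃ f : ℕ → G, (∀ i, f i ∈ commutator G) ∧ FreeGroup.lift f w ≠ 1

theorem lift_comp {α G H : Type*} [Group G] [Group H] (φ : G →* H) (f : α → G)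
    (w : FreeGroup α) : FreeGroup.lift (φ ∘ f) w = φ (FreeGroup.lift f w) := by
  have : (FreeGroup.lift (φ ∘ f) : FreeGroup α →* H) = φ.comp (FreeGroup.lift f) :=
    FreeGroup.ext_hom _ _ (by simp)
  rw [this]; rfl

theorem lift_congr {α G : Type*} [Group G] [DecidableEq α] {f g : α → G} {w : FreeGroup α}
    (h : ∀ i ∈ w.toWord.map Prod.fst, f i = g i) : FreeGroup.lift f w = FreeGroup.lift g w := by
  rw [lift_eq_prod, lift_eq_prod]
  congr 1
  exact List.map_congr_left fun p hp => by rw [h p.1 (List.mem_map_of_mem hp)]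

theorem NotLawC.map {G H : Type*} [Group G] [Group H] {w : FreeGroup ℕ} (φ : G →* H)
    (hφ : Function.Injective φ) (h : NotLawC G w) : NotLawC H w := by
  obtain ⟨f, hf, hw⟩ := h
  refine ⟨φ ∘ f, fun i => ?_, ?_⟩
  · have h1 : φ (f i) ∈ (commutator G).map φ := Subgroup.mem_map_of_mem _ (hf i)
    rw [commutator_def, Subgroup.map_commutator] at h1
    exact Subgroup.commutator_mono le_top le_top h1
  · rw [lift_comp]
    exact fun h1 => hw (hφ (h1.trans φ.map_one.symm))

theorem NotLawC.exists_lift {G : Type*} [Group G] {w : FreeGroup ℕ} (h : NotLawC G w) :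
    ∃ f : ℕ → G, FreeGroup.lift f w ≠ 1 :=
  let ⟨f, _, hw⟩ := h; ⟨f, hw⟩

theorem NotLawC.commutatorSubgroup {G : Type*} [Group G] {w : FreeGroup ℕ} (h : NotLawC G w) :
    ∃ f : ℕ → ↥(commutator G), FreeGroup.lift f w ≠ 1 := by
  obtain ⟨f, hf, hw⟩ := h
  refine ⟨fun i => ⟨f i, hf i⟩, fun h1 => hw ?_⟩
  have := congrArg (commutator G).subtype h1
  rwa [← lift_comp, map_one] at this

theorem card_letters_le {α : Type*} [DecidableEq α] (w : FreeGroup α) :
    (w.toWord.map Prod.fst).toFinset.card ≤ w.toWord.length :=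
  (List.toFinset_card_le _).trans (by simp)

theorem exists_spread {F : Type*} [Field F] [Fintype F] (S : Finset ℕ)
    (h : 3 * S.card < Fintype.card F) :
    ∃ a : ℕ → F, ∀ i ∈ S, ∀ j ∈ S, i ≠ j → a i - a j ≠ 0 ∧ a i - a j ≠ 1 := by
  classical
  induction S using Finset.induction_on with
  | empty => exact ⟨0, by simp⟩
  | @insert x S hx ih =>
    rw [Finset.card_insert_of_notMem hx] at h
    obtain ⟨a, ha⟩ := ih (by omega)
    set B := S.image a ∪ (S.image fun i => a i + 1) ∪ (S.image fun i => a i - 1) with hB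
    have hBc : B.card ≤ 3 * S.card := by
      have := Finset.card_image_le (s := S) (f := a)
      have := Finset.card_image_le (s := S) (f := fun i => a i + 1)
      have := Finset.card_image_le (s := S) (f := fun i => a i - 1)
      have := Finset.card_union_le (S.image a) (S.image fun i => a i + 1)
      have := Finset.card_union_le (S.image a ∪ (S.image fun i => a i + 1))
        (S.image fun i => a i - 1)
      rw [hB]; omega
    obtain ⟨c, hc⟩ : ∃ c, c ∉ B := by
      by_contra hcon
      push Not at hcon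
      have : B = Finset.univ := Finset.eq_univ_iff_forall.2 hcon
      rw [this, Finset.card_univ] at hBc
      omega
    simp only [hB, Finset.mem_union, Finset.mem_image, not_or, not_exists, not_and] at hc
    refine ⟨Function.update a x c, fun i hi j hj hij => ?_⟩
    rw [Finset.mem_insert] at hi hj
    rcases hi with rfl | hi <;> rcases hj with rfl | hj
    · exact absurd rfl hij
    · rw [Function.update_self, Function.update_of_ne hij.symm]
      refine ⟨fun h0 => hc.1.1 j hj ?_, fun h0 => hc.1.2 j hj ?_⟩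
      · linear_combination -h0
      · linear_combination -h0
    · rw [Function.update_self, Function.update_of_ne hij]
      refine ⟨fun h0 => hc.1.1 i hi ?_, fun h0 => hc.2 i hi ?_⟩
      · linear_combination h0
      · linear_combination h0
    · rw [Function.update_of_ne (fun h => hx (by rw [← h]; exact hi)),
        Function.update_of_ne (fun h => hx (by rw [← h]; exact hj))]
      exact ha i hi j hj hij

section SL2

variable (F : Type*) [Field F]

/-- The element `(a a-1; 1 1)`. -/
def slK (a : F) : Matrix.SpecialLinearGroup (Fin 2) F :=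
  ⟨!![a, a - 1; 1, 1], by simp [Matrix.det_fin_two]⟩

/-- The monomial element `(0 1; -1 0)`. -/
def slW : Matrix.SpecialLinearGroup (Fin 2) F :=
  ⟨!![0, 1; -1, 0], by simp [Matrix.det_fin_two]⟩

/-- The element `diag(t, t⁻¹)`, or `1` if `t = 0`. -/
noncomputable def slT (t : F) : Matrix.SpecialLinearGroup (Fin 2) F :=
  open Classical in if h : t ≠ 0 then ⟨!![t, 0; 0, t⁻¹], by simp [Matrix.det_fin_two, h]⟩ else 1

theorem slT_coe {t : F} (ht : t ≠ 0) :
    (slT F t : Matrix (Fin 2) (Fin 2) F) = !![t, 0; 0, t⁻¹] := by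
  rw [show slT F t = _ from dif_pos ht]

theorem slW_coe : (slW F : Matrix (Fin 2) (Fin 2) F) = !![0, 1; -1, 0] := rfl

theorem slK_coe (a : F) : (slK F a : Matrix (Fin 2) (Fin 2) F) = !![a, a - 1; 1, 1] := rfl

theorem slT_bracket {t : F} (ht : t ≠ 0) :
    ((⁅slT F t, slW F⁆ : Matrix.SpecialLinearGroup (Fin 2) F) : Matrix (Fin 2) (Fin 2) F) =
      (t ^ 2)⁻¹ • Matrix.diagonal (fun r => t ^ (![4, 0] : Fin 2 → ℕ) r) := by
  simp only [commutatorElement_def, Matrix.SpecialLinearGroup.coe_mul,
    Matrix.SpecialLinearGroup.coe_inv, slW_coe, slT_coe F ht, Matrix.adjugate_fin_two_of]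
  ext i j
  fin_cases i <;> fin_cases j <;> simp [Matrix.diagonal] <;> field_simp

theorem slK_inv_mul (a b : F) :
    (((slK F a)⁻¹ * slK F b : Matrix.SpecialLinearGroup (Fin 2) F) : Matrix (Fin 2) (Fin 2) F) =
      !![b - a + 1, b - a; a - b, a - b + 1] := by
  simp only [Matrix.SpecialLinearGroup.coe_mul, Matrix.SpecialLinearGroup.coe_inv, slK_coe,
    Matrix.adjugate_fin_two_of]
  ext i j
  fin_cases i <;> fin_cases j <;> simp [Matrix.mul_apply, Fin.sum_univ_two] <;> ring

/-- In a large `SL₂(F)` some substitution by commutator elements gives a word a noncentral value. -/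
theorem sl2_noncentral_value [Fintype F] (w : FreeGroup ℕ) (hw : w ≠ 1)
    (hF : 4 * w.toWord.length + 1 < Fintype.card F) :
    ∃ f : ℕ → Matrix.SpecialLinearGroup (Fin 2) F,
      (∀ i, f i ∈ commutator (Matrix.SpecialLinearGroup (Fin 2) F)) ∧
      FreeGroup.lift f w ∉ Subgroup.center (Matrix.SpecialLinearGroup (Fin 2) F) := by
  classical
  set S := (w.toWord.map Prod.fst).toFinset with hS
  obtain ⟨a, ha⟩ := exists_spread (F := F) S
    (by have := card_letters_le w; rw [hS]; omega)
  set φ : Matrix.SpecialLinearGroup (Fin 2) F →* Matrix (Fin 2) (Fin 2) F :=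
    (Units.coeHom _).comp Matrix.SpecialLinearGroup.toGL with hφ
  obtain ⟨t, ht, hns⟩ := exists_not_scalar_value φ
    (fun t => ⁅slT F t, slW F⁆) (fun t => (t ^ 2)⁻¹) ![4, 0] 4 0 1
    (by intro r; fin_cases r <;> simp) (by intro r; fin_cases r <;> simp)
    (by intro r; fin_cases r <;> simp)
    (fun t ht => slT_bracket F ht)
    (by simp) (fun i => slK F (a i)) w hw
    (by
      intro i j hij hi hj r s hr hs
      have h1 := ha i (by simpa [hS] using hi) j (by simpa [hS] using hj) hij
      have h2 := ha j (by simpa [hS] using hj) i (by simpa [hS] using hi) hij.symm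
      change (((slK F (a i))⁻¹ * slK F (a j) : Matrix.SpecialLinearGroup (Fin 2) F) :
        Matrix (Fin 2) (Fin 2) F) r s ≠ 0
      rw [slK_inv_mul]
      intro h0
      fin_cases r <;> fin_cases s <;> simp at h0
      · exact h1.2 (by linear_combination -h0)
      · exact h2.1 (by linear_combination h0)
      · exact h1.1 (by linear_combination h0)
      · exact h2.2 (by linear_combination -h0)) hF
  refine ⟨fun i => slK F (a i) * ⁅slT F t, slW F⁆ * (slK F (a i))⁻¹, fun i => ?_, fun hc => ?_⟩
  · have hN : (commutator (Matrix.SpecialLinearGroup (Fin 2) F)).Normal := inferInstance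
    exact hN.conj_mem _ (Subgroup.commutator_mem_commutator (Subgroup.mem_top _)
      (Subgroup.mem_top _)) _
  · obtain ⟨r, -, hr⟩ := Matrix.SpecialLinearGroup.mem_center_iff.1 hc
    exact hns r (by rw [hr]; simp [hφ])

theorem notLawC_sl2 [Fintype F] (w : FreeGroup ℕ) (hw : w ≠ 1)
    (hF : 4 * w.toWord.length + 1 < Fintype.card F) :
    NotLawC (Matrix.SpecialLinearGroup (Fin 2) F) w := by
  obtain ⟨f, hf, hc⟩ := sl2_noncentral_value F w hw hF
  exact ⟨f, hf, fun h => hc (h ▸ Subgroup.one_mem _)⟩

end SL2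

/-- A word together with a fresh letter: a nontrivial commutator. -/
theorem exists_bracket_ne_one (w : FreeGroup ℕ) (hw : w ≠ 1) :
    ∃ M : ℕ, ⁅w, FreeGroup.of M⁆ ≠ 1 := by
  classical
  obtain ⟨p, hp, hpp⟩ := Nat.exists_infinite_primes (4 * w.toWord.length + 2)
  haveI : Fact p.Prime := ⟨hpp⟩
  obtain ⟨f, -, hc⟩ := sl2_noncentral_value (ZMod p) w hw (by rw [ZMod.card]; omega)
  obtain ⟨g, hg⟩ : ∃ g, g * FreeGroup.lift f w ≠ FreeGroup.lift f w * g := by
    simpa [Subgroup.mem_center_iff] using hc
  obtain ⟨M, hM⟩ := Infinite.exists_notMem_finset (w.toWord.map Prod.fst).toFinset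
  refine ⟨M, fun h1 => hg ?_⟩
  have hw' : FreeGroup.lift (Function.update f M g) w = FreeGroup.lift f w :=
    lift_congr fun i hi => Function.update_of_ne
      (fun h => hM (by rw [← h]; simpa using hi)) _ _
  have h2 := congrArg (FreeGroup.lift (Function.update f M g)) h1
  rw [map_commutatorElement, map_one, hw', FreeGroup.lift_apply_of, Function.update_self,
    commutatorElement_eq_one_iff_mul_comm] at h2
  exact h2.symm

theorem exists_lift_quotient_center {G : Type*} [Group G] {w : FreeGroup ℕ} {M : ℕ}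
    (h : ∃ f : ℕ → G, FreeGroup.lift f ⁅w, FreeGroup.of M⁆ ≠ 1) :
    ∃ f : ℕ → G ⧸ Subgroup.center G, FreeGroup.lift f w ≠ 1 := by
  obtain ⟨f, hf⟩ := h
  refine ⟨QuotientGroup.mk' (Subgroup.center G) ∘ f, fun h1 => hf ?_⟩
  rw [lift_comp, QuotientGroup.mk'_apply, QuotientGroup.eq_one_iff,
    Subgroup.mem_center_iff] at h1
  rw [map_commutatorElement, commutatorElement_eq_one_iff_mul_comm]
  exact (h1 _).symm

/-- The regular permutation representation doubled, into any larger symmetric group. -/
theorem exists_injective_hom_alternating (G : Type*) [Group G] [Finite G] (n : ℕ)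
    (hn : 2 * Nat.card G ≤ n) :
    ∃ φ : G →* alternatingGroup (Fin n), Function.Injective φ := by
  classical
  haveI := Fintype.ofFinite G
  have hc : Fintype.card (G ⊕ G) ≤ Fintype.card (Fin n) := by
    simp [← Nat.card_eq_fintype_card, two_mul] at hn ⊢
    simpa [Nat.card_eq_fintype_card] using hn
  obtain ⟨ι⟩ := Function.Embedding.nonempty_of_card_le hc
  set ψ : G →* Equiv.Perm (Fin n) := (Equiv.Perm.viaEmbeddingHom ι).comp
    ((Equiv.Perm.sumCongrHom G G).comp
      ((MulAction.toPermHom G G).prod (MulAction.toPermHom G G))) with hψ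
  have hsign : ∀ g, ψ g ∈ alternatingGroup (Fin n) := by
    intro g
    rw [Equiv.Perm.mem_alternatingGroup, hψ]
    simp only [MonoidHom.coe_comp, Function.comp_apply, Equiv.Perm.viaEmbeddingHom_apply]
    rw [Equiv.Perm.viaEmbedding, Equiv.Perm.sign_extendDomain]
    simp [Equiv.Perm.sign_sumCongr]
  refine ⟨ψ.codRestrict _ hsign, ?_⟩
  intro g g' h
  have h1 : ψ g = ψ g' := congrArg Subtype.val h
  have h2 := Equiv.Perm.sumCongrHom_injective (Equiv.Perm.viaEmbeddingHom_injective ι h1)
  have h3 := congrArg Prod.fst h2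
  exact MulAction.toPerm_injective h3

/-- A nontrivial word is a law in only finitely many alternating groups. -/
theorem notLawC_alternating (w : FreeGroup ℕ) (hw : w ≠ 1) :
    ∃ N : ℕ, ∀ n : ℕ, N ≤ n → NotLawC (alternatingGroup (Fin n)) w := by
  obtain ⟨p, hp, hpp⟩ := Nat.exists_infinite_primes (4 * w.toWord.length + 2)
  haveI : Fact p.Prime := ⟨hpp⟩
  have h := notLawC_sl2 (ZMod p) w hw (by rw [ZMod.card]; omega)
  refine ⟨2 * Nat.card (Matrix.SpecialLinearGroup (Fin 2) (ZMod p)), fun n hn => ?_⟩
  obtain ⟨φ, hφ⟩ := exists_injective_hom_alternating _ n hn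
  exact h.map φ hφ

end CfsgLib.Laws
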