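import Mathlib
import Cfsg.Prelude.Def_Classical
import Cfsg.Agent.Lib.Laws.Basic

/-!
Nontrivial words are not laws in classical groups of large rank or over large fields.
-/

set_option autoImplicit false

namespace CfsgLib.Laws

open Matrix
open scoped commutatorElement

section blocks

variable {R : Type*} [CommRing R] {α β γ : Type} [Fintype α] [DecidableEq α] [Fintype β]
  [DecidableEq β] [Fintype γ] [DecidableEq γ]

/-- `A ↦ diag(A, 1)` reindexed along `e`. -/
def extendHom (e : α ⊕ β ≃ γ) : Matrix α α R →* Matrix γ γ R where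
  toFun A := (fromBlocks A 0 0 (1 : Matrix β β R)).submatrix e.symm e.symm
  map_one' := by rw [fromBlocks_one, submatrix_one_equiv]
  map_mul' A B := by
    rw [submatrix_mul_equiv, fromBlocks_multiply]
    simp

theorem extendHom_injective (e : α ⊕ β ≃ γ) :
    Function.Injective (extendHom e : Matrix α α R →* Matrix γ γ R) := by
  intro A B h
  ext i j
  have := congrFun (congrFun h (e (.inl i))) (e (.inl j))
  simpa [extendHom] using this

theorem det_extendHom (e : α ⊕ β ≃ γ) (A : Matrix α α R) : (extendHom e A).det = A.det := by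
  simp [extendHom]

/-- The block extension on special linear groups. -/
def slExtend (e : α ⊕ β ≃ γ) :
    Matrix.SpecialLinearGroup α R →* Matrix.SpecialLinearGroup γ R where
  toFun A := ⟨extendHom e (A : Matrix α α R), by rw [det_extendHom]; exact A.2⟩
  map_one' := Subtype.ext (map_one (extendHom e))
  map_mul' A B := Subtype.ext (map_mul (extendHom e) _ _)

theorem slExtend_injective (e : α ⊕ β ≃ γ) :
    Function.Injective (slExtend e : Matrix.SpecialLinearGroup α R →* _) := fun _ _ h =>
  Subtype.ext (extendHom_injective e (congrArg Subtype.val h))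

end blocks

section alternating

variable {R : Type*} [CommRing R] [Nontrivial R]

/-- The even permutation matrices inside the special linear group. -/
def altSL (n : ℕ) : alternatingGroup (Fin n) →* Matrix.SpecialLinearGroup (Fin n) R where
  toFun σ := ⟨Matrix.permMatrixHom (σ : Equiv.Perm (Fin n)), by
    have h := Equiv.Perm.mem_alternatingGroup.1 σ.2
    simp [Matrix.det_permutation, h]⟩
  map_one' := Subtype.ext (map_one Matrix.permMatrixHom)
  map_mul' σ τ := Subtype.ext (map_mul Matrix.permMatrixHom _ _)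

theorem altSL_injective (n : ℕ) :
    Function.Injective (altSL n : alternatingGroup (Fin n) →* Matrix.SpecialLinearGroup (Fin n) R)
    := by
  intro σ τ h
  apply Subtype.ext
  apply inv_injective
  ext i : 1
  have h2 : ((σ : Equiv.Perm (Fin n))⁻¹).permMatrix R = ((τ : Equiv.Perm (Fin n))⁻¹).permMatrix R :=
    congrArg Subtype.val h
  have h3 := congrFun (congrFun h2 i) ((σ : Equiv.Perm (Fin n))⁻¹ i)
  by_contra hne
  simp [PEquiv.toMatrix_apply, Equiv.Perm.permMatrix, Equiv.toPEquiv_apply] at h3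
  exact hne h3.symm

end alternating

/-- A word is not a law in `SL_n` of large degree or over a large field. -/
theorem notLawC_sl (w : FreeGroup ℕ) (hw : w ≠ 1) :
    ∃ N : ℕ, 3 ≤ N ∧ ∀ (F : Type) [Field F] [Fintype F] (n : ℕ), 2 ≤ n →
      (N ≤ n ∨ N ≤ Fintype.card F) → NotLawC (Matrix.SpecialLinearGroup (Fin n) F) w := by
  obtain ⟨N₀, hN₀⟩ := notLawC_alternating w hw
  refine ⟨N₀ + 4 * w.toWord.length + 3, by omega, fun F _ _ n hn h => ?_⟩
  rcases h with h | h
  · exact (hN₀ n (by omega)).map (altSL n) (altSL_injective n)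
  · obtain ⟨k, rfl⟩ := Nat.exists_eq_add_of_le hn
    exact (notLawC_sl2 F w hw (by omega)).map (slExtend (finSumFinEquiv (m := 2) (n := k)))
      (slExtend_injective _)

section symplectic

variable {F : Type*} [Field F]

/-- `A ↦ diag(A, A⁻ᵀ)`. -/
def doubleHom (m : ℕ) : GL (Fin m) F →* Matrix (Fin m ⊕ Fin m) (Fin m ⊕ Fin m) F where
  toFun A := fromBlocks (A : Matrix (Fin m) (Fin m) F) 0 0 ((A⁻¹ : GL (Fin m) F) : Matrix (Fin m) (Fin m) F)ᵀ
  map_one' := by simp
  map_mul' A B := by simp [fromBlocks_multiply, Matrix.transpose_mul]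

theorem doubleHom_injective (m : ℕ) :
    Function.Injective (doubleHom m : GL (Fin m) F →* _) := by
  intro A B h
  have h1 : (fromBlocks (A : Matrix (Fin m) (Fin m) F) 0 0
      ((A⁻¹ : GL (Fin m) F) : Matrix (Fin m) (Fin m) F)ᵀ) =
      fromBlocks (B : Matrix (Fin m) (Fin m) F) 0 0
      ((B⁻¹ : GL (Fin m) F) : Matrix (Fin m) (Fin m) F)ᵀ := h
  exact Units.ext (fromBlocks_inj.1 h1).1

theorem doubleHom_mem (m : ℕ) (A : GL (Fin m) F) :
    doubleHom m A ∈ Matrix.symplecticGroup (Fin m) F := by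
  have h : (A : Matrix (Fin m) (Fin m) F) * ((A⁻¹ : GL (Fin m) F) : Matrix (Fin m) (Fin m) F) = 1 :=
    Units.mul_inv A
  have h' : ((A⁻¹ : GL (Fin m) F) : Matrix (Fin m) (Fin m) F) * (A : Matrix (Fin m) (Fin m) F) = 1 :=
    Units.inv_mul A
  rw [SymplecticGroup.mem_iff]
  simp only [doubleHom, MonoidHom.coe_mk, OneHom.coe_mk, Matrix.J, fromBlocks_transpose,
    fromBlocks_multiply]
  simp [← Matrix.transpose_mul, h, h']

/-- `GL_m → Sp_{2m}`. -/
def glSp (m : ℕ) : GL (Fin m) F →* Matrix.symplecticGroup (Fin m) F where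
  toFun A := ⟨doubleHom m A, doubleHom_mem m A⟩
  map_one' := Subtype.ext (map_one (doubleHom m))
  map_mul' A B := Subtype.ext (map_mul (doubleHom m) A B)

theorem glSp_injective (m : ℕ) : Function.Injective (glSp m : GL (Fin m) F →* _) := fun _ _ h =>
  doubleHom_injective m (congrArg Subtype.val h)

end symplectic

section orthogonal

variable {F : Type*} [Field F] {ι : Type} [Fintype ι] [DecidableEq ι]

theorem notLawC_isometry {m : ℕ} (Q : (ι → F) → F) (Φ : GL (Fin m) F →* Matrix ι ι F)
    (hinj : Function.Injective Φ) (hQ : ∀ A v, Q (Φ A *ᵥ v) = Q v) {w : FreeGroup ℕ}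
    (h : NotLawC (GL (Fin m) F) w) : ∃ f : ℕ → ↥(Cfsg.Omega F Q), FreeGroup.lift f w ≠ 1 := by
  let ψ : GL (Fin m) F →* ↥(Cfsg.isometryGroup F Q) :=
    (Φ.toHomUnits).codRestrict _ (fun A => fun u _ => hQ A u)
  have hψ : Function.Injective ψ := by
    intro A B hAB
    refine hinj ?_
    exact congrArg (fun x : ↥(Cfsg.isometryGroup F Q) => ((x : GL ι F) : Matrix ι ι F)) hAB
  exact (h.map ψ hψ).commutatorSubgroup

theorem double_isometry (m : ℕ) (A : GL (Fin m) F) (x y : Fin m → F) :
    ∑ i, ((A : Matrix (Fin m) (Fin m) F) *ᵥ x) i *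
      ((((A⁻¹ : GL (Fin m) F) : Matrix (Fin m) (Fin m) F)ᵀ) *ᵥ y) i = ∑ i, x i * y i := by
  change ((A : Matrix (Fin m) (Fin m) F) *ᵥ x) ⬝ᵥ
    ((((A⁻¹ : GL (Fin m) F) : Matrix (Fin m) (Fin m) F)ᵀ) *ᵥ y) = x ⬝ᵥ y
  rw [mulVec_transpose, dotProduct_comm _ (y ᵥ* _), ← dotProduct_mulVec, mulVec_mulVec,
    Units.inv_mul, one_mulVec, dotProduct_comm]

theorem notLawC_omegaPlus {m : ℕ} {w : FreeGroup ℕ} (h : NotLawC (GL (Fin m) F) w) :
    ∃ f : ℕ → ↥(Cfsg.Omega F (Cfsg.quadFormPlus m F)), FreeGroup.lift f w ≠ 1 := by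
  refine notLawC_isometry _ (doubleHom m) (doubleHom_injective m) (fun A v => ?_) h
  have h1 := fun i => congrFun (fromBlocks_mulVec (A : Matrix (Fin m) (Fin m) F) 0 0
    ((A⁻¹ : GL (Fin m) F) : Matrix (Fin m) (Fin m) F)ᵀ v) (.inl i)
  have h2 := fun i => congrFun (fromBlocks_mulVec (A : Matrix (Fin m) (Fin m) F) 0 0
    ((A⁻¹ : GL (Fin m) F) : Matrix (Fin m) (Fin m) F)ᵀ v) (.inr i)
  simp only [Cfsg.quadFormPlus, doubleHom, MonoidHom.coe_mk, OneHom.coe_mk, h1, h2]
  simpa using double_isometry m A (v ∘ Sum.inl) (v ∘ Sum.inr)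

theorem notLawC_omegaOdd {m : ℕ} {w : FreeGroup ℕ} (h : NotLawC (GL (Fin m) F) w) :
    ∃ f : ℕ → ↥(Cfsg.Omega F (Cfsg.quadFormOdd m F)), FreeGroup.lift f w ≠ 1 := by
  refine notLawC_isometry _ ((extendHom (Equiv.sumComm (Fin m ⊕ Fin m) Unit)).comp (doubleHom m))
    ((extendHom_injective _).comp (doubleHom_injective m)) (fun A v => ?_) h
  simp [Cfsg.quadFormOdd, extendHom, doubleHom, submatrix_mulVec_equiv, fromBlocks_mulVec,
    mulVec_transpose]
  have := double_isometry m A (fun i => v (.inr (.inl i))) (fun i => v (.inr (.inr i)))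
  simpa [mulVec_transpose, Function.comp_def] using this

theorem notLawC_omegaMinus {m : ℕ} (a b : F) {w : FreeGroup ℕ} (h : NotLawC (GL (Fin m) F) w) :
    ∃ f : ℕ → ↥(Cfsg.Omega F (Cfsg.quadFormMinus m F a b)), FreeGroup.lift f w ≠ 1 := by
  refine notLawC_isometry _ ((extendHom (Equiv.refl ((Fin m ⊕ Fin m) ⊕ Fin 2))).comp (doubleHom m))
    ((extendHom_injective _).comp (doubleHom_injective m)) (fun A v => ?_) h
  simp [Cfsg.quadFormMinus, extendHom, doubleHom, fromBlocks_mulVec, mulVec_transpose]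
  have := double_isometry m A (fun i => v (.inl (.inl i))) (fun i => v (.inl (.inr i)))
  simpa [mulVec_transpose, Function.comp_def] using this

end orthogonal

section unitary

variable {F : Type*} [Field F] {n : ℕ}

/-- `g ↦ C g D` from a special linear group over `K`, for mutually inverse `C`, `D`. -/
def conjSL {K : Type*} [CommRing K] (ψ : K →+* F) (C D : Matrix (Fin 2) (Fin 2) F) (h : C * D = 1)
    (h' : D * C = 1) :
    Matrix.SpecialLinearGroup (Fin 2) K →* Matrix.SpecialLinearGroup (Fin 2) F where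
  toFun g := ⟨C * (g : Matrix (Fin 2) (Fin 2) K).map ψ * D, by
    have h1 : ((g : Matrix (Fin 2) (Fin 2) K).map ψ).det = 1 := by
      rw [← RingHom.mapMatrix_apply, ← RingHom.map_det, g.2, map_one]
    rw [det_mul, det_mul, h1, mul_one, ← det_mul, h, det_one]⟩
  map_one' := Subtype.ext (by
    change C * (1 : Matrix (Fin 2) (Fin 2) K).map ψ * D = 1
    rw [Matrix.map_one ψ ψ.map_zero ψ.map_one, Matrix.mul_one, h])
  map_mul' g g' := Subtype.ext (by
    change C * ((g : Matrix (Fin 2) (Fin 2) K) * (g' : Matrix (Fin 2) (Fin 2) K)).map ψ * D =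
      C * (g : Matrix (Fin 2) (Fin 2) K).map ψ * D * (C * (g' : Matrix (Fin 2) (Fin 2) K).map ψ * D)
    rw [Matrix.map_mul, show ∀ X Y : Matrix (Fin 2) (Fin 2) F,
      C * X * D * (C * Y * D) = C * X * (D * C) * Y * D from
        fun X Y => by simp only [Matrix.mul_assoc], h', Matrix.mul_one, ← Matrix.mul_assoc C])

theorem mem_SU_of_matrix (q : ℕ) (φ : F →+* F) (hφ : ∀ x, φ x = x ^ q)
    (g : Matrix.SpecialLinearGroup (Fin n) F)
    (hg : (g : Matrix (Fin n) (Fin n) F)ᵀ * (g : Matrix (Fin n) (Fin n) F).map φ = 1) :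
    g ∈ Cfsg.SU n F q := by
  intro u v
  have key : ∀ u v : Fin n → F, Cfsg.hermForm n F q u v = u ⬝ᵥ (φ ∘ v) := by
    intro u v; simp [Cfsg.hermForm, dotProduct, hφ]
  rw [key, key]
  change ((g : Matrix (Fin n) (Fin n) F) *ᵥ u) ⬝ᵥ (φ ∘ ((g : Matrix (Fin n) (Fin n) F) *ᵥ v)) = _
  have h1 : φ ∘ ((g : Matrix (Fin n) (Fin n) F) *ᵥ v) =
      (g : Matrix (Fin n) (Fin n) F).map φ *ᵥ (φ ∘ v) := by
    ext i; exact RingHom.map_mulVec φ _ _ i
  rw [h1, dotProduct_mulVec, ← vecMul_transpose, vecMul_vecMul, hg, vecMul_one]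

theorem exists_fixed_hom (q : ℕ) [Fintype F] (hF : Fintype.card F = q ^ 2) (hq : 2 ≤ q) :
    ∃ (φ : F →+* F) (K : Subfield F), (∀ x, φ x = x ^ q) ∧ (∀ x ∈ K, φ x = x) ∧
      q - 1 ≤ Nat.card K ∧
      ∃ C : Matrix (Fin 2) (Fin 2) F, IsUnit C.det ∧
        ∃ δ : F, Cᵀ * C.map φ = δ • !![0, 1; -1, 0] := by
  classical
  obtain ⟨p, hchar⟩ := CharP.exists F
  haveI := hchar
  obtain ⟨j, hp, hj⟩ := FiniteField.card F p
  haveI : Fact p.Prime := ⟨hp⟩
  obtain ⟨i, -, hi⟩ := (Nat.dvd_prime_pow hp).1 (⟨q, by rw [← hj, hF, sq]⟩ : q ∣ p ^ (j : ℕ))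
  haveI : ExpChar F p := ExpChar.prime hp
  let φ : F →+* F := iterateFrobenius F p i
  have hφ : ∀ x, φ x = x ^ q := fun x => by rw [hi]; exact iterateFrobenius_def p i x
  refine ⟨φ, φ.eqLocusField (RingHom.id F), hφ, fun x hx => hx, ?_, ?_⟩
  all_goals
    have hpow : ∀ x : F, (x ^ q) ^ q = x := fun x => by
      rw [← pow_mul, ← sq, ← hF, FiniteField.pow_card]
    have hfix : (Finset.univ.filter fun x : F => x ^ q = x ∧ x ≠ 0).card ≤ q - 1 := by
      have hsub : (Finset.univ.filter fun x : F => x ^ q = x ∧ x ≠ 0) ⊆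
          (Polynomial.nthRoots (q - 1) (1 : F)).toFinset := by
        intro x hx
        simp only [Finset.mem_filter, Finset.mem_univ, true_and] at hx
        rw [Multiset.mem_toFinset, Polynomial.mem_nthRoots (by omega)]
        have h : x ^ (q - 1) * x = 1 * x := by
          rw [← pow_succ, Nat.sub_add_cancel (by omega), one_mul, hx.1]
        exact mul_right_cancel₀ hx.2 h
      exact (Finset.card_le_card hsub).trans
        ((Multiset.toFinset_card_le _).trans (Polynomial.card_nthRoots _ _))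
    set T := (Finset.univ.erase (0 : F)).image (fun x => x ^ (q + 1)) with hT
    have hTfix : T ⊆ Finset.univ.filter fun x : F => x ^ q = x ∧ x ≠ 0 := by
      intro y hy
      simp only [hT, Finset.mem_image, Finset.mem_erase, Finset.mem_univ, and_true] at hy
      obtain ⟨x, hx, rfl⟩ := hy
      simp only [Finset.mem_filter, Finset.mem_univ, true_and]
      refine ⟨?_, pow_ne_zero _ hx⟩
      rw [pow_succ, mul_pow, hpow, mul_comm]
    have hTcard : q - 1 ≤ T.card := by
      have h1 := Finset.card_le_mul_card_image (f := fun x : F => x ^ (q + 1))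
        (Finset.univ.erase (0 : F)) (q + 1) (fun y _ => by
          have hsub : ((Finset.univ.erase (0 : F)).filter fun x => x ^ (q + 1) = y) ⊆
              (Polynomial.nthRoots (q + 1) y).toFinset := by
            intro x hx
            simp only [Finset.mem_filter] at hx
            simp [Polynomial.mem_nthRoots, hx.2]
          exact (Finset.card_le_card hsub).trans
            ((Multiset.toFinset_card_le _).trans (Polynomial.card_nthRoots _ _)))
      rw [Finset.card_erase_of_mem (Finset.mem_univ _), Finset.card_univ, hF, ← hT] at h1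
      have h2 : q ^ 2 - 1 = (q + 1) * (q - 1) := by
        obtain ⟨r, rfl⟩ : ∃ r, q = r + 1 := ⟨q - 1, by omega⟩
        simp only [Nat.add_sub_cancel]; ring_nf; omega
      rw [h2] at h1
      exact Nat.le_of_mul_le_mul_left h1 (by omega)
  · calc q - 1 ≤ T.card := hTcard
      _ = Nat.card (T : Set F) := by simp
      _ ≤ Nat.card {x : F // x ∈ φ.eqLocusField (RingHom.id F)} := by
        refine Nat.card_le_card_of_injective (fun x => ⟨x.1, ?_⟩) ?_
        · have := hTfix x.2
          simp only [Finset.mem_filter] at this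
          simp [hφ, this.2.1]
        · intro x y h
          exact Subtype.ext (congrArg (fun z : {x : F // x ∈ φ.eqLocusField (RingHom.id F)} => z.1) h)
  · have hTeq := Finset.eq_of_subset_of_card_le hTfix (hfix.trans hTcard)
    have hneg : (-1 : F) ^ q = -1 := by rw [← hφ, map_neg, map_one]
    have hmem : (-1 : F) ∈ T := by
      rw [hTeq]; simp [hneg]
    simp only [hT, Finset.mem_image, Finset.mem_erase, Finset.mem_univ, and_true] at hmem
    obtain ⟨c, hc0, hc⟩ := hmem
    obtain ⟨ζ, hζ, hζ1⟩ : ∃ ζ : F, ζ ^ (q + 1) = 1 ∧ ζ ≠ 1 := by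
      by_contra hcon
      push Not at hcon
      have hinj : Set.InjOn (fun x : F => x ^ (q + 1)) (Finset.univ.erase (0 : F) : Set F) := by
        intro x hx y hy hxy
        simp only [Finset.coe_erase, Set.mem_diff, Finset.coe_univ, Set.mem_univ, true_and,
          Set.mem_singleton_iff] at hx hy hxy
        have := hcon (x / y) (by rw [div_pow, hxy, div_self (pow_ne_zero _ hy)])
        exact (div_eq_one_iff_eq hy).1 this
      have h1 := Finset.card_image_of_injOn hinj
      rw [← hT, Finset.card_erase_of_mem (Finset.mem_univ _), Finset.card_univ, hF] at h1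
      have h2 := (Finset.card_le_card hTfix).trans hfix
      have : q + 2 ≤ q ^ 2 + 0 := by nlinarith
      omega
    obtain ⟨x, hx⟩ : ∃ x : F, x ^ q ≠ x := by
      by_contra hcon
      push Not at hcon
      have h1 : (Finset.univ.erase (0 : F)) ⊆
          Finset.univ.filter (fun x : F => x ^ q = x ∧ x ≠ 0) := fun y hy => by
        simp at hy; simp [hcon y, hy]
      have h2 := (Finset.card_le_card h1).trans hfix
      rw [Finset.card_erase_of_mem (Finset.mem_univ _), Finset.card_univ, hF] at h2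
      have : q + 2 ≤ q ^ 2 + 0 := by nlinarith
      omega
    set δ₀ : F := 1 + c * φ (c * ζ) with hδ₀
    have hδ₀0 : δ₀ ≠ 0 := by
      intro h
      rw [hδ₀, map_mul, hφ c, hφ ζ] at h
      have h1 : ζ ^ q = 1 := by
        linear_combination -h + (ζ ^ q) * hc
      rw [pow_succ, h1, one_mul] at hζ
      exact hζ1 hζ
    set δ : F := x - φ x with hδ
    have hδ0 : δ ≠ 0 := by
      rw [hδ, hφ]; exact sub_ne_zero.2 (Ne.symm hx)
    have hφφ : ∀ y, φ (φ y) = y := fun y => by rw [hφ, hφ, hpow]
    have hδneg : φ δ = -δ := by rw [hδ, map_sub, hφφ]; ring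
    set lam : F := φ (δ / δ₀) with hlam
    have hlam0 : lam ≠ 0 := by
      rw [hlam]; exact (map_ne_zero φ).2 (div_ne_zero hδ0 hδ₀0)
    refine ⟨!![1, lam; c, lam * (c * ζ)], ?_, δ, ?_⟩
    · rw [isUnit_iff_ne_zero, Matrix.det_fin_two_of]
      intro h
      have h1 : lam * c * (ζ - 1) = 0 := by linear_combination h
      simp [hlam0, hc0, sub_eq_zero, hζ1] at h1
    · have e11 : c * φ c = -1 := by rw [hφ, ← pow_succ']; exact hc
      have e12 : (c * ζ) * φ (c * ζ) = -1 := by
        rw [hφ, ← pow_succ', mul_pow, hc, hζ, mul_one]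
      have e01 : φ lam * δ₀ = δ := by rw [hlam, hφφ, div_mul_cancel₀ _ hδ₀0]
      have e10 : lam * (1 + c * ζ * φ c) = -δ := by
        have := congrArg φ e01
        rw [map_mul, hφφ, hδneg, hδ₀, map_add, map_one, map_mul φ c, hφφ] at this
        linear_combination this
      ext i j
      fin_cases i <;> fin_cases j <;> simp [Matrix.mul_apply, Fin.sum_univ_two]
      · linear_combination e11
      · rw [hδ₀, map_mul φ c ζ] at e01; linear_combination e01
      · linear_combination e10
      · rw [map_mul φ c ζ] at e12; linear_combination (lam * φ lam) * e12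

/-- A word is not a law in `SU_n` of large degree or over a large field. -/
theorem notLawC_su (w : FreeGroup ℕ) (hw : w ≠ 1) :
    ∃ N : ℕ, 3 ≤ N ∧ ∀ (F : Type) [Field F] [Fintype F] (q n : ℕ), Fintype.card F = q ^ 2 → 2 ≤ n →
      (N ≤ n ∨ N ^ 2 ≤ Fintype.card F) → NotLawC ↥(Cfsg.SU n F q) w := by
  classical
  obtain ⟨N₀, hN₀⟩ := notLawC_alternating w hw
  refine ⟨N₀ + 4 * w.toWord.length + 4, by omega, fun F _ _ q n hF hn h => ?_⟩
  have hq1 : 2 ≤ q := by
    have h1 := Fintype.one_lt_card (α := F)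
    rcases q with _ | _ | q <;> simp_all
  rcases h with h | h
  · refine (hN₀ n (by omega)).map ((altSL n).codRestrict (Cfsg.SU n F q) fun σ => ?_) ?_
    · intro u v
      change Cfsg.hermForm n F q (((σ : Equiv.Perm (Fin n))⁻¹).permMatrix F *ᵥ u)
        (((σ : Equiv.Perm (Fin n))⁻¹).permMatrix F *ᵥ v) = _
      rw [permMatrix_mulVec, permMatrix_mulVec]
      exact Equiv.sum_comp ((σ : Equiv.Perm (Fin n))⁻¹) (fun i => u i * v i ^ q)
    · exact fun a b hab => altSL_injective (R := F) n (congrArg Subtype.val hab)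
  · rw [hF] at h
    have hq : N₀ + 4 * w.toWord.length + 4 ≤ q := Nat.pow_le_pow_iff_left two_ne_zero |>.1 h
    obtain ⟨φ, K, hφ, hK, hKc, C, hC, δ, hCC⟩ := exists_fixed_hom q hF hq1
    haveI : Fintype K := Fintype.ofFinite K
    have h2 := notLawC_sl2 K w hw (by rw [← Nat.card_eq_fintype_card]; omega)
    have hC1 : C * C⁻¹ = 1 := Matrix.mul_nonsing_inv C hC
    have hC2 : C⁻¹ * C = 1 := Matrix.nonsing_inv_mul C hC
    let conjC := conjSL K.subtype C C⁻¹ hC1 hC2
    have hconj_inj : Function.Injective conjC := by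
      intro g g' hgg
      have h1 : C * (g : Matrix (Fin 2) (Fin 2) K).map K.subtype * C⁻¹ =
          C * (g' : Matrix (Fin 2) (Fin 2) K).map K.subtype * C⁻¹ := congrArg Subtype.val hgg
      have h2 := congrArg (fun X => C⁻¹ * X * C) h1
      simp only [← Matrix.mul_assoc, hC2, Matrix.one_mul] at h2
      simp only [Matrix.mul_assoc, hC2, Matrix.mul_one] at h2
      exact Subtype.ext (Matrix.map_injective K.subtype_injective h2)
    obtain ⟨k, rfl⟩ := Nat.exists_eq_add_of_le hn
    let e := finSumFinEquiv (m := 2) (n := k)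
    refine h2.map (((slExtend e).comp conjC).codRestrict (Cfsg.SU (2 + k) F q) fun g => ?_) ?_
    · refine mem_SU_of_matrix q φ hφ _ ?_
      have hgJ : ((g : Matrix (Fin 2) (Fin 2) K).map K.subtype)ᵀ * !![0, 1; -1, 0] *
          ((g : Matrix (Fin 2) (Fin 2) K).map K.subtype).map φ = !![0, 1; -1, 0] := by
        have hdet := g.2
        rw [Matrix.det_fin_two] at hdet
        have hdet' := congrArg K.subtype hdet
        simp only [map_sub, map_mul, map_one] at hdet'
        have hfix : ∀ i j, φ (K.subtype ((g : Matrix (Fin 2) (Fin 2) K) i j)) =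
            K.subtype ((g : Matrix (Fin 2) (Fin 2) K) i j) := fun i j => hK _ (SetLike.coe_mem _)
        ext i j
        simp only [Subfield.coe_subtype] at hdet' hfix
        fin_cases i <;> fin_cases j <;>
          simp [Matrix.mul_apply, Fin.sum_univ_two, hfix] <;>
          first
            | ring1
            | linear_combination hdet'
            | linear_combination -hdet'
      set X := (g : Matrix (Fin 2) (Fin 2) K).map K.subtype with hX
      have hM : (C * X * C⁻¹)ᵀ * (C * X * C⁻¹).map φ = 1 := by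
        have hCi : C⁻¹.map φ = (C.map φ)⁻¹ := by
          refine (Matrix.inv_eq_left_inv ?_).symm
          rw [← Matrix.map_mul, hC2, Matrix.map_one φ φ.map_zero φ.map_one]
        rw [Matrix.map_mul, Matrix.map_mul, transpose_mul, transpose_mul]
        calc C⁻¹ᵀ * (Xᵀ * Cᵀ) * (C.map φ * X.map φ * C⁻¹.map φ)
            = C⁻¹ᵀ * (Xᵀ * (Cᵀ * C.map φ) * X.map φ) * C⁻¹.map φ := by
              simp only [Matrix.mul_assoc]
          _ = C⁻¹ᵀ * (Cᵀ * C.map φ) * C⁻¹.map φ := by
              rw [hCC, Matrix.mul_smul, Matrix.smul_mul, hgJ]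
          _ = (C * C⁻¹)ᵀ * (C * C⁻¹).map φ := by
              rw [transpose_mul, Matrix.map_mul]
              simp only [Matrix.mul_assoc]
          _ = 1 := by
              rw [hC1, transpose_one, Matrix.map_one φ φ.map_zero φ.map_one, Matrix.one_mul]
      change (extendHom e (C * X * C⁻¹))ᵀ * (extendHom e (C * X * C⁻¹)).map φ = 1
      generalize C * X * C⁻¹ = Y at hM ⊢
      simp only [extendHom, MonoidHom.coe_mk, OneHom.coe_mk, transpose_submatrix,
        ← submatrix_map, submatrix_mul_equiv, fromBlocks_transpose, fromBlocks_map,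
        fromBlocks_multiply]
      simp [hM]
    · exact fun a b hab => hconj_inj (slExtend_injective e (congrArg Subtype.val hab))

end unitary

/-- A bound for the order of a quotient of a group of matrices. -/
theorem card_le_of_matrix {F : Type*} [Field F] [Fintype F] {ι : Type} [Fintype ι]
    {G H : Type*} [Group G] [Group H] (Z : Subgroup H) [Z.Normal] (e : G ≃* H ⧸ Z)
    (toMat : H → Matrix ι ι F) (hinj : Function.Injective toMat) (N : ℕ)
    (hF : Fintype.card F ≤ N) (hι : Fintype.card ι ≤ 2 * N + 2) :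
    Nat.card G ≤ N ^ ((2 * N + 2) ^ 2) := by
  classical
  haveI : Finite H := Finite.of_injective toMat hinj
  rw [Nat.card_congr e.toEquiv]
  refine (Nat.card_le_card_of_surjective _ QuotientGroup.mk_surjective).trans ?_
  refine (Nat.card_le_card_of_injective toMat hinj).trans ?_
  rw [show Nat.card (Matrix ι ι F) = Fintype.card F ^ (Fintype.card ι ^ 2) by
    change Nat.card (ι → ι → F) = _
    simp [Nat.card_eq_fintype_card, ← pow_mul, sq]]
  have hN : 1 ≤ N := le_trans Fintype.card_pos hF
  exact (Nat.pow_le_pow_left hF _).trans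
    (Nat.pow_le_pow_right hN (Nat.pow_le_pow_left hι 2))

end CfsgLib.Laws
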