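import Mathlib
import Cfsg.Prelude.Def_Sz
import Cfsg.Agent.Lib.Laws.Basic

/-!
Nontrivial words are not laws in large Suzuki groups.
-/

set_option autoImplicit false

namespace CfsgLib.Laws

open Cfsg.Lie Matrix

variable {F : Type*} [Field F]

/-- The lower unitriangular element with parameter `b` and corner entry `b ^ e`. -/
def szUMat (e : ℕ) (b : F) : Matrix (Fin 4) (Fin 4) F :=
  !![1, 0, 0, 0; 0, 1, 0, 0; b, 0, 1, 0; b ^ e, b, 0, 1]

/-- The antidiagonal permutation matrix. -/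
def szWMat : Matrix (Fin 4) (Fin 4) F :=
  !![0, 0, 0, 1; 0, 0, 1, 0; 0, 1, 0, 0; 1, 0, 0, 0]

theorem szUMat_mul_self [CharP F 2] (e : ℕ) (b : F) : szUMat e b * szUMat e b = 1 := by
  ext i j
  fin_cases i <;> fin_cases j <;>
    simp [szUMat, Matrix.mul_apply, Fin.sum_univ_four, CharTwo.add_self_eq_zero]

theorem szWMat_mul_self : (szWMat : Matrix (Fin 4) (Fin 4) F) * szWMat = 1 := by
  ext i j
  fin_cases i <;> fin_cases j <;> simp [szWMat, Matrix.mul_apply, Fin.sum_univ_four]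

/-- `szUMat` as a unit. -/
def szU [CharP F 2] (e : ℕ) (b : F) : GL (Fin 4) F :=
  ⟨szUMat e b, szUMat e b, szUMat_mul_self e b, szUMat_mul_self e b⟩

/-- `szWMat` as a unit. -/
def szW : GL (Fin 4) F :=
  ⟨szWMat, szWMat, szWMat_mul_self, szWMat_mul_self⟩

/-- The torus element with parameter `μ`. -/
def szT (k : ℕ) (μ : Fˣ) : GL (Fin 4) F :=
  ⟨Matrix.diagonal ![(μ : F) ^ (1 + k), (μ : F) ^ k, (↑μ⁻¹ : F) ^ k, (↑μ⁻¹ : F) ^ (1 + k)],
   Matrix.diagonal ![(↑μ⁻¹ : F) ^ (1 + k), (↑μ⁻¹ : F) ^ k, (μ : F) ^ k, (μ : F) ^ (1 + k)],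
   by
    rw [Matrix.diagonal_mul_diagonal, ← Matrix.diagonal_one]
    congr 1
    ext r
    fin_cases r <;> simp [← mul_pow],
   by
    rw [Matrix.diagonal_mul_diagonal, ← Matrix.diagonal_one]
    congr 1
    ext r
    fin_cases r <;> simp [← mul_pow]⟩

variable [Fintype F] [CharP F 2] {m : ℕ}

theorem pow_ee (hF : Fintype.card F = 2 ^ (2 * m + 1)) (b : F) :
    (b ^ 2 ^ (m + 1)) ^ 2 ^ (m + 1) = b ^ 2 := by
  have h : (2 : ℕ) ^ (m + 1) * 2 ^ (m + 1) = Fintype.card F * 2 := by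
    rw [hF, ← pow_add, ← pow_succ]
    congr 1; omega
  rw [← pow_mul, h, pow_mul, FiniteField.pow_card]

theorem szU_mem (hF : Fintype.card F = 2 ^ (2 * m + 1)) (b : F) :
    szU (2 ^ (m + 1)) b ∈ Sz F (2 ^ (m + 1)) := by
  refine Subgroup.subset_closure ⟨?_, ?_⟩
  · intro u v
    have h2 : (2 : F) = 0 := CharTwo.two_eq_zero
    simp [szU, szUMat, altForm4, Matrix.mulVec, dotProduct, Fin.sum_univ_four]
    linear_combination (u 0 * v 0 * b ^ (2 ^ (m + 1)) + u 0 * v 1 * b + u 1 * v 0 * b) * h2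
  · have h1 := pow_ee hF b
    ext i j
    fin_cases i <;> fin_cases j <;>
      simp [star4, pairOf, szU, szUMat, h1, CharTwo.sub_eq_add] <;> ring

theorem szW_mem : (szW : GL (Fin 4) F) ∈ Sz F (2 ^ (m + 1)) := by
  refine Subgroup.subset_closure ⟨?_, ?_⟩
  · intro u v
    simp [szW, szWMat, altForm4, Matrix.mulVec, dotProduct, Fin.sum_univ_four]
    ring
  · ext i j
    fin_cases i <;> fin_cases j <;> simp [star4, pairOf, szW, szWMat, CharTwo.neg_eq]

theorem diag_mem (m : ℕ) (x₁ x₂ y₂ y₁ : F) (g : GL (Fin 4) F)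
    (hg : (g : Matrix (Fin 4) (Fin 4) F) = Matrix.diagonal ![x₁, x₂, y₂, y₁])
    (h1 : x₁ * y₁ = 1) (h2 : x₂ * y₂ = 1)
    (e1 : x₁ ^ 2 ^ (m + 1) = x₁ * x₂) (e2 : x₂ ^ 2 ^ (m + 1) = x₁ * y₂)
    (e3 : y₂ ^ 2 ^ (m + 1) = x₂ * y₁) (e4 : y₁ ^ 2 ^ (m + 1) = y₂ * y₁) :
    g ∈ Sz F (2 ^ (m + 1)) := by
  refine Subgroup.subset_closure ⟨?_, ?_⟩
  · intro u v
    simp [hg, altForm4, Matrix.mulVec_diagonal]
    linear_combination (u 0 * v 3 + u 3 * v 0) * h1 + (u 1 * v 2 + u 2 * v 1) * h2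
  · have hm : (2 : ℕ) ^ (m + 1) ≠ 0 := by positivity
    rw [hg]
    ext i j
    fin_cases i <;> fin_cases j <;>
      simp [star4, pairOf, Matrix.diagonal, e1, e2, e3, e4, zero_pow hm]

theorem szT_mem (hF : Fintype.card F = 2 ^ (2 * m + 1)) (μ : Fˣ) :
    szT (2 ^ m) μ ∈ Sz F (2 ^ (m + 1)) := by
  have he : (2 : ℕ) ^ m * 2 ^ (m + 1) = Fintype.card F := by
    rw [hF, ← pow_add]; congr 1; omega
  have key : ∀ x : F, (x ^ (1 + 2 ^ m)) ^ 2 ^ (m + 1) = x ^ (1 + 2 ^ m) * x ^ 2 ^ m := by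
    intro x
    rw [← pow_mul, add_mul, one_mul, he, pow_add, FiniteField.pow_card, ← pow_add, ← pow_succ]
    congr 1
    rw [pow_succ]; omega
  have key' : ∀ x : F, (x ^ 2 ^ m) ^ 2 ^ (m + 1) = x := by
    intro x; rw [← pow_mul, he, FiniteField.pow_card]
  have h0 : (μ : F) * (↑μ⁻¹ : F) = 1 := Units.mul_inv μ
  have h2 : (μ : F) ^ 2 ^ m * (↑μ⁻¹ : F) ^ 2 ^ m = 1 := by rw [← mul_pow, h0, one_pow]
  refine diag_mem m _ _ _ _ _ rfl (by rw [← mul_pow, h0, one_pow]) h2 (key _) ?_ ?_ ?_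
  · rw [key', pow_add, pow_one, mul_assoc, h2, mul_one]
  · rw [key', pow_add, pow_one, mul_comm, mul_assoc, mul_comm _ ((μ : F) ^ 2 ^ m), h2, mul_one]
  · rw [key, mul_comm]

theorem szU_inv (e : ℕ) (b : F) : (szU e b)⁻¹ = szU e b := Units.ext rfl

theorem szW_inv : (szW : GL (Fin 4) F)⁻¹ = szW := Units.ext rfl

theorem corner_value (m : ℕ) (a b : F) :
    ((szU (2 ^ (m + 1)) a * szW * szU (2 ^ (m + 1)) (1 : F))⁻¹ *
      (szU (2 ^ (m + 1)) b * szW * szU (2 ^ (m + 1)) 1) : GL (Fin 4) F).val 0 0 =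
      (a + b) ^ 2 ^ (m + 1) + (a + b) + 1 ∧
    ((szU (2 ^ (m + 1)) a * szW * szU (2 ^ (m + 1)) (1 : F))⁻¹ *
      (szU (2 ^ (m + 1)) b * szW * szU (2 ^ (m + 1)) 1) : GL (Fin 4) F).val 0 3 =
      (a + b) ^ 2 ^ (m + 1) ∧
    ((szU (2 ^ (m + 1)) a * szW * szU (2 ^ (m + 1)) (1 : F))⁻¹ *
      (szU (2 ^ (m + 1)) b * szW * szU (2 ^ (m + 1)) 1) : GL (Fin 4) F).val 3 0 =
      (a + b) ^ 2 ^ (m + 1) ∧
    ((szU (2 ^ (m + 1)) a * szW * szU (2 ^ (m + 1)) (1 : F))⁻¹ *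
      (szU (2 ^ (m + 1)) b * szW * szU (2 ^ (m + 1)) 1) : GL (Fin 4) F).val 3 3 =
      (a + b) ^ 2 ^ (m + 1) + (a + b) + 1 := by
  have h2 : (2 : F) = 0 := CharTwo.two_eq_zero
  simp only [_root_.mul_inv_rev, szU_inv, szW_inv, Units.val_mul, szU, szW, add_pow_char_pow]
  refine ⟨?_, ?_, ?_, ?_⟩ <;>
    simp [szUMat, szWMat, Matrix.mul_apply, Fin.sum_univ_four] <;> ring_nf <;> simp [h2]

theorem suzuki_value (w : FreeGroup ℕ) (hw : w ≠ 1)
    (hF : Fintype.card F = 2 ^ (2 * m + 1)) (hm : 4 * w.toWord.length + 1 ≤ m) :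
    ∃ f : ℕ → ↥(Sz F (2 ^ (m + 1))), FreeGroup.lift f w ≠ 1 := by
  classical
  have hm2 : m < 2 ^ m := Nat.lt_two_pow_self
  have hbound : (2 + 2 ^ (m + 1)) * w.toWord.length + 1 < Fintype.card F := by
    have h1 : 2 + 2 ^ (m + 1) ≤ 4 * 2 ^ m := by
      rw [pow_succ]; have := Nat.one_le_two_pow (n := m); omega
    have h2 : (2 + 2 ^ (m + 1)) * w.toWord.length ≤ 2 ^ m * (4 * w.toWord.length) := by
      calc _ ≤ 4 * 2 ^ m * w.toWord.length := Nat.mul_le_mul_right _ h1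
        _ = _ := by ring
    have h4 : 2 ^ m * (4 * w.toWord.length) + 2 ^ m ≤ 2 ^ m * 2 ^ m := by
      calc _ = 2 ^ m * (4 * w.toWord.length + 1) := by ring
        _ ≤ _ := Nat.mul_le_mul_left _ (by omega)
    have h5 : Fintype.card F = 2 * (2 ^ m * 2 ^ m) := by rw [hF]; ring
    have := Nat.one_le_two_pow (n := m)
    nlinarith
  set S := (w.toWord.map Prod.fst).toFinset with hS
  have hL : w.toWord.length ≤ m := by omega
  have hSF : 3 * S.card < Fintype.card F := by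
    have := card_letters_le w
    have h1 : 3 * w.toWord.length + 1 ≤ (2 + 2 ^ (m + 1)) * w.toWord.length + 1 := by
      have := Nat.one_le_two_pow (n := m)
      have : 3 ≤ 2 + 2 ^ (m + 1) := by rw [pow_succ]; omega
      gcongr
    rw [hS]; omega
  obtain ⟨b, hb⟩ := exists_spread (F := F) S hSF
  set φ : ↥(Sz F (2 ^ (m + 1))) →* Matrix (Fin 4) (Fin 4) F :=
    (Units.coeHom _).comp (Sz F (2 ^ (m + 1))).subtype with hφ
  let d : F → ↥(Sz F (2 ^ (m + 1))) := fun t =>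
    if h : t ≠ 0 then ⟨szT (2 ^ m) (Units.mk0 t h), szT_mem hF _⟩ else 1
  let kk : ℕ → ↥(Sz F (2 ^ (m + 1))) := fun i =>
    ⟨szU (2 ^ (m + 1)) (b i) * szW * szU (2 ^ (m + 1)) (1 : F),
      mul_mem (mul_mem (szU_mem hF _) szW_mem) (szU_mem hF _)⟩
  have hm1 : (2 : ℕ) ^ m ≥ 1 := Nat.one_le_two_pow
  obtain ⟨t, ht, hns⟩ := exists_not_scalar_value φ d (fun t => (t ^ (1 + 2 ^ m))⁻¹)
    ![2 + 2 ^ (m + 1), 1 + 2 ^ (m + 1), 1, 0] (2 + 2 ^ (m + 1)) 0 3
    (by intro r; fin_cases r <;> simp <;> omega)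
    (by intro r; fin_cases r <;> simp <;> omega)
    (by intro r; fin_cases r <;> simp <;> omega)
    (by
      intro t ht
      simp only [hφ, MonoidHom.coe_comp, Function.comp_apply, Subgroup.subtype_apply,
        Units.coeHom_apply, d, dif_pos ht, szT, Units.val_inv_eq_inv_val, Units.val_mk0]
      ext i j
      rcases eq_or_ne i j with rfl | hij
      · fin_cases i <;> simp [pow_succ, pow_add, mul_comm] <;> field_simp <;> ring
      · simp [hij])
    (by simp) kk w hw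
    (by
      intro i j hij hi hj r s hr hs
      have h1 := hb i (by simpa [hS] using hi) j (by simpa [hS] using hj) hij
      have hc0 : b i + b j ≠ 0 := by rw [← CharTwo.sub_eq_add]; exact h1.1
      have hc1 : (b i + b j) ^ 2 ^ (m + 1) + (b i + b j) + 1 ≠ 0 := by
        intro h0
        set c := b i + b j
        have e1 : c ^ 2 ^ (m + 1) = c + 1 := by
          linear_combination h0 - (c + 1) * (CharTwo.two_eq_zero (R := F))
        have e2 : c ^ 2 = c := by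
          have := pow_ee hF c
          rw [e1, add_pow_char_pow, one_pow, e1] at this
          linear_combination -this + (CharTwo.two_eq_zero (R := F))
        have e3 : c = 1 := by
          rcases mul_eq_zero.1 (show c * (c - 1) = 0 by linear_combination e2) with h | h
          · exact absurd h hc0
          · linear_combination h
        rw [e3, one_pow] at e1
        exact one_ne_zero (by linear_combination -e1)
      obtain ⟨c00, c03, c30, c33⟩ := corner_value m (b i) (b j)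
      change ((szU (2 ^ (m + 1)) (b i) * szW * szU (2 ^ (m + 1)) (1 : F))⁻¹ *
        (szU (2 ^ (m + 1)) (b j) * szW * szU (2 ^ (m + 1)) 1) : GL (Fin 4) F).val r s ≠ 0
      rcases hr with rfl | rfl <;> rcases hs with rfl | rfl
      · rw [c00]; exact hc1
      · rw [c03]; exact pow_ne_zero _ hc0
      · rw [c30]; exact pow_ne_zero _ hc0
      · rw [c33]; exact hc1)
    hbound
  refine ⟨fun i => kk i * d t * (kk i)⁻¹, fun h => hns 1 ?_⟩
  rw [h]; simp

end CfsgLib.Laws
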